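/-
The squaring map as a polynomial map of degree two (helper70).

Main results (namespace `Cfsg.Agent.Squaring`): `Deg`, `card_le_of_deg` (support bound for functions of bounded
degree), `card_mul_sq_le` (`|H| |E|^2 ≤ #{x | x^2 ∈ E} |K|^2` when all squares lie in the central elementary
abelian subgroup `K ≥ E`).
-/
import Cfsg.Agent.EqLemmas

set_option autoImplicit false

namespace Cfsg.Agent.Squaring

variable {H : Type*} [Group H]

/-- `f` has degree at most `e` for derivatives by right translations. -/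
def Deg : ℕ → (H → ZMod 2) → Prop
  | 0, f => ∀ x a, f (x * a) = f x
  | e + 1, f => ∀ a, Deg e fun x => f (x * a) + f x

theorem deg_const (c : ZMod 2) : ∀ e, Deg e fun _ : H => c
  | 0 => fun _ _ => rfl
  | e + 1 => fun _ => deg_const (c + c) e

theorem deg_succ : ∀ (e : ℕ) (f : H → ZMod 2), Deg e f → Deg (e + 1) f
  | 0, f, h => fun a => by
    have : (fun x => f (x * a) + f x) = fun _ => (0 : ZMod 2) := funext fun x => by rw [h x a, CharTwo.add_self_eq_zero]
    rw [this]; exact deg_const 0 0
  | e + 1, _, h => fun a => deg_succ e _ (h a)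

theorem deg_le {e e' : ℕ} (h : e ≤ e') {f : H → ZMod 2} (hf : Deg e f) : Deg e' f := by
  induction h with
  | refl => exact hf
  | step _ ih => exact deg_succ _ _ ih

theorem deg_add : ∀ (e : ℕ) (f g : H → ZMod 2), Deg e f → Deg e g → Deg e fun x => f x + g x
  | 0, f, g, hf, hg => fun x a => by show f (x * a) + g (x * a) = f x + g x; rw [hf, hg]
  | e + 1, f, g, hf, hg => fun a => by
    have := deg_add e _ _ (hf a) (hg a)
    convert this using 2 with x
    ring

theorem deg_translate : ∀ (e : ℕ) (f : H → ZMod 2) (c : H), Deg e f → Deg e fun x => f (x * c)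
  | 0, f, c, hf => fun x a => by show f (x * a * c) = f (x * c); rw [hf, hf, hf x c]
  | e + 1, f, c, hf => fun a => by
    have := deg_translate e _ c (hf (c⁻¹ * a * c))
    convert this using 2 with x
    simp [mul_assoc]

theorem deg_mul : ∀ (n e e' : ℕ) (f g : H → ZMod 2), e + e' = n → Deg e f → Deg e' g → Deg n fun x => f x * g x := by
  intro n
  induction n with
  | zero =>
    intro e e' f g h hf hg x a
    obtain ⟨rfl, rfl⟩ : e = 0 ∧ e' = 0 := by omega
    show f (x * a) * g (x * a) = f x * g x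
    rw [hf, hg]
  | succ n ih =>
    intro e e' f g h hf hg a
    have key : (fun x => f (x * a) * g (x * a) + f x * g x) =
        fun x => (f (x * a) + f x) * g (x * a) + f x * (g (x * a) + g x) := funext fun x => by
      have h2 : f x * g (x * a) + f x * g (x * a) = 0 := CharTwo.add_self_eq_zero _
      linear_combination -h2
    rw [key]
    refine deg_add n _ _ ?_ ?_
    · cases e with
      | zero =>
        have hz : (fun x => (f (x * a) + f x) * g (x * a)) = fun _ => (0 : ZMod 2) :=
          funext fun x => by rw [hf x a, CharTwo.add_self_eq_zero, zero_mul]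
        rw [hz]; exact deg_const 0 n
      | succ e => exact ih e e' _ _ (by omega) (hf a) (deg_translate e' g a hg)
    · cases e' with
      | zero =>
        have hz : (fun x => f x * (g (x * a) + g x)) = fun _ => (0 : ZMod 2) :=
          funext fun x => by rw [hg x a, CharTwo.add_self_eq_zero, mul_zero]
        rw [hz]; exact deg_const 0 n
      | succ e' => exact ih e e' _ _ (by omega) hf (hg a)

/-- A nonzero function of degree at most `e` is nonzero at at least `|H| / 2^e` points. -/
theorem card_le_of_deg [Finite H] : ∀ (e : ℕ) (f : H → ZMod 2), Deg e f → (∃ x, f x ≠ 0) →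
    Nat.card H ≤ 2 ^ e * Nat.card {x : H // f x ≠ 0} := by
  have hall : ∀ f : H → ZMod 2, (∀ x a, f (x * a) = f x) → (∃ x, f x ≠ 0) →
      Nat.card H ≤ Nat.card {x : H // f x ≠ 0} := by
    intro f hf ⟨x₀, hx₀⟩
    refine Nat.card_le_card_of_injective (fun x => ⟨x, ?_⟩) fun x y h => congrArg Subtype.val h
    rwa [← hf x (x⁻¹ * x₀), mul_inv_cancel_left]
  intro e
  induction e with
  | zero => intro f hf hne; rw [pow_zero, one_mul]; exact hall f hf hne
  | succ e ih =>
    intro f hf hne
    by_cases hd : ∃ a x, f (x * a) + f x ≠ 0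
    · obtain ⟨a, ha⟩ := hd
      refine (ih _ (hf a) ha).trans ?_
      rw [pow_succ, mul_assoc]
      refine Nat.mul_le_mul_left _ ?_
      have hinj : Nat.card {x : H // f (x * a) + f x ≠ 0} ≤
          Nat.card ({x : H // f x ≠ 0} ⊕ {x : H // f x ≠ 0}) := by
        classical
        refine Nat.card_le_card_of_injective (fun x => if h : f x.1 ≠ 0 then Sum.inl ⟨x.1, h⟩ else
          Sum.inr ⟨x.1 * a, fun h' => x.2 (by rw [h', not_not.mp h, add_zero])⟩) ?_
        intro x y hxy
        dsimp only at hxy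
        split at hxy <;> split at hxy <;> simp_all [Subtype.ext_iff]
      rw [Nat.card_sum] at hinj
      omega
    · push Not at hd
      refine (hall f (fun x a => ?_) hne).trans (Nat.le_mul_of_pos_left _ (by positivity))
      exact CharTwo.add_eq_zero.mp (hd a x)

variable (K : Subgroup H)

theorem swap_mem (hK : ∀ x : H, x * x ∈ K) (x a : H) : x⁻¹ * a * x * a⁻¹ ∈ K := by
  have := K.mul_mem (K.mul_mem (K.inv_mem (hK x)) (hK (x * a))) (K.inv_mem (hK a))
  convert this using 1
  group

theorem deg_indicator (hK : ∀ x : H, x * x ∈ K) (hZ : K ≤ Subgroup.center H) (M : Subgroup H) (hMK : M ≤ K)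
    (hM : M.relIndex K = 2) [DecidablePred (· ∈ M)] :
    Deg 2 fun x : H => if x * x ∈ M then (1 : ZMod 2) else 0 := by
  let φ : H → ZMod 2 := fun k => if k ∈ M then 0 else 1
  have hφ : ∀ k ∈ K, ∀ l ∈ K, φ (k * l) = φ k + φ l := by
    intro k hk l hl
    have h := Subgroup.mul_mem_iff_of_index_two (H := M.subgroupOf K) hM (a := ⟨k, hk⟩) (b := ⟨l, hl⟩)
    simp only [Subgroup.mem_subgroupOf, Subgroup.coe_mul] at h
    simp only [φ]
    split_ifs <;> simp_all
    all_goals decide
  have hc : ∀ x ∈ K, ∀ y, x * y = y * x := fun x hx y => (Subgroup.mem_center_iff.mp (hZ hx) y).symm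
  intro a b x c
  have e : ∀ z, (if (z * a) * (z * a) ∈ M then (1 : ZMod 2) else 0) + (if z * z ∈ M then 1 else 0) =
      φ (a * a) + φ (z⁻¹ * a * z * a⁻¹) := by
    intro z
    have h1 : (z * a) * (z * a) = (z * z) * ((z⁻¹ * a * z * a⁻¹) * (a * a)) := by group
    have h2 := hφ _ (hK z) _ (K.mul_mem (swap_mem K hK z a) (hK a))
    rw [← h1, hφ _ (swap_mem K hK z a) _ (hK a)] at h2
    simp only [φ] at h2 ⊢
    split_ifs at h2 ⊢ <;> first | rfl | (exfalso; revert h2; decide) | decide
  have hlin : ∀ z w, φ ((z * w)⁻¹ * a * (z * w) * a⁻¹) = φ (z⁻¹ * a * z * a⁻¹) + φ (w⁻¹ * a * w * a⁻¹) := by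
    intro z w
    rw [← hφ _ (swap_mem K hK z a) _ (swap_mem K hK w a)]
    congr 1
    rw [show (z * w)⁻¹ * a * (z * w) * a⁻¹ = w⁻¹ * (z⁻¹ * a * z * a⁻¹) * (a * w * a⁻¹) by group,
      ← hc _ (swap_mem K hK z a) w⁻¹]
    group
  show (_ + _ : ZMod 2) + _ = _ + _
  simp only [e]
  rw [hlin (x * c) b, hlin x b]
  have h3 : ∀ u v w : ZMod 2, (u + (v + w)) + (u + v) = w := by decide
  rw [h3, h3]

/-- **Warning's bound** for the squaring map. -/
theorem card_mul_sq_le [Finite H] (hK : ∀ x : H, x * x ∈ K) (hZ : K ≤ Subgroup.center H)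
    (hexp : ∀ k ∈ K, k * k = 1) (E : Subgroup H) (hE : E ≤ K) :
    Nat.card H * Nat.card E ^ 2 ≤ Nat.card {x : H // x * x ∈ E} * Nat.card K ^ 2 := by
  classical
  suffices h : ∀ n, ∀ E : Subgroup H, E ≤ K → Nat.card K ≤ n + Nat.card E →
      ∃ r, Nat.card K = 2 ^ r * Nat.card E ∧ Deg (2 * r) fun x : H => if x * x ∈ E then (1 : ZMod 2) else 0 by
    obtain ⟨r, hr, hdeg⟩ := h _ E hE (Nat.le_add_right _ _)
    have h1 := card_le_of_deg _ _ hdeg ⟨1, by simp⟩
    have h2 : Nat.card {x : H // (if x * x ∈ E then (1 : ZMod 2) else 0) ≠ 0} = Nat.card {x : H // x * x ∈ E} :=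
      Nat.card_congr (Equiv.subtypeEquivRight fun x => by split_ifs with h <;> simp [h])
    rw [h2] at h1
    calc Nat.card H * Nat.card E ^ 2 ≤ 2 ^ (2 * r) * Nat.card {x : H // x * x ∈ E} * Nat.card E ^ 2 :=
          Nat.mul_le_mul_right _ h1
      _ = Nat.card {x : H // x * x ∈ E} * Nat.card K ^ 2 := by rw [hr, mul_pow, ← pow_mul, mul_comm r 2]; ring
  intro n
  induction n with
  | zero =>
    intro E hE hcard
    obtain rfl : E = K := Subgroup.eq_of_le_of_card_ge hE (by simpa using hcard)
    refine ⟨0, by simp, ?_⟩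
    intro x a
    simp [hK]
  | succ n ih =>
    intro E hE hcard
    by_cases hEK : E = K
    · subst hEK
      exact ih E hE (Nat.le_add_left _ _)
    obtain ⟨k, hkK, hkE⟩ := SetLike.exists_of_lt (lt_of_le_of_ne hE hEK)
    obtain ⟨M, ⟨hMK, hEM, hkM⟩, hmax⟩ := (Set.toFinite {M : Subgroup H | M ≤ K ∧ E ≤ M ∧ k ∉ M}).exists_maximal
      ⟨E, hE, le_rfl, hkE⟩
    have hc : ∀ x ∈ K, ∀ y, x * y = y * x := fun x hx y => (Subgroup.mem_center_iff.mp (hZ hx) y).symm
    -- adjoining an element of `K` to a subgroup of `K`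
    have hadj : ∀ (A : Subgroup H) (u : H), A ≤ K → u ∈ K → ∀ x ∈ A ⊔ Subgroup.zpowers u, x ∈ A ∨ x * u ∈ A := by
      intro A u hA hu x hx
      let B : Subgroup H :=
        { carrier := {x | x ∈ A ∨ x * u ∈ A}
          one_mem' := Or.inl A.one_mem
          mul_mem' := by
            rintro a b (ha | ha) (hb | hb)
            · exact Or.inl (A.mul_mem ha hb)
            · exact Or.inr (by rw [mul_assoc]; exact A.mul_mem ha hb)
            · exact Or.inr (by rw [mul_assoc, ← hc u hu b, ← mul_assoc]; exact A.mul_mem ha hb)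
            · refine Or.inl ?_
              have h3 := A.mul_mem ha hb
              rwa [show a * u * (b * u) = a * b * (u * u) by rw [mul_assoc, ← mul_assoc u b u, hc u hu b]; group,
                hexp u hu, mul_one] at h3
          inv_mem' := by
            rintro a (ha | ha)
            · exact Or.inl (A.inv_mem ha)
            · refine Or.inr ?_
              have h3 := A.inv_mem ha
              rwa [mul_inv_rev, inv_eq_of_mul_eq_one_right (hexp u hu), hc u hu] at h3 }
      exact (sup_le (fun a ha => Or.inl ha) (Subgroup.zpowers_le.mpr (Or.inr (by rw [hexp u hu]; exact A.one_mem))) :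
        A ⊔ Subgroup.zpowers u ≤ B) hx
    have hrel : M.relIndex K = 2 := by
      refine Subgroup.index_eq_two_iff.mpr ⟨⟨k, hkK⟩, fun b => ?_⟩
      have hx : ∀ x ∈ K, x ∈ M ∨ x * k ∈ M := by
        intro x hxK
        by_cases hxM : x ∈ M
        · exact Or.inl hxM
        have hkx : k ∈ M ⊔ Subgroup.zpowers x := by
          by_contra hh
          exact hxM ((hmax ⟨sup_le hMK (Subgroup.zpowers_le.mpr hxK), hEM.trans le_sup_left, hh⟩ le_sup_left)
            (Subgroup.mem_sup_right (Subgroup.mem_zpowers x)))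
        rcases hadj M x hMK hxK k hkx with h | h
        · exact absurd h hkM
        · exact Or.inr (by rwa [hc x hxK k])
      simp only [Subgroup.mem_subgroupOf, Subgroup.coe_mul]
      rcases hx b b.2 with h | h
      · exact Or.inr ⟨h, fun h' => hkM (by simpa [← mul_assoc] using M.mul_mem (M.inv_mem h) h')⟩
      · exact Or.inl ⟨h, fun h' => hkM (by simpa [← mul_assoc] using M.mul_mem (M.inv_mem h') h)⟩
    set E' := E ⊔ Subgroup.zpowers k
    have hE'K : E' ≤ K := sup_le hE (Subgroup.zpowers_le.mpr hkK)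
    have hinter : ∀ x, x ∈ E ↔ x ∈ E' ∧ x ∈ M := by
      refine fun x => ⟨fun hx => ⟨Subgroup.mem_sup_left hx, hEM hx⟩, fun ⟨h1, h2⟩ => ?_⟩
      rcases hadj E k hE hkK x h1 with h | h
      · exact h
      · exact absurd (by simpa using M.mul_mem (M.inv_mem h2) (hEM h)) hkM
    have hcardE' : Nat.card E' = 2 * Nat.card E := by
      have h1 : E.relIndex E' = 2 := by
        refine Subgroup.index_eq_two_iff.mpr ⟨⟨k, Subgroup.mem_sup_right (Subgroup.mem_zpowers k)⟩, fun b => ?_⟩
        simp only [Subgroup.mem_subgroupOf, Subgroup.coe_mul]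
        rcases hadj E k hE hkK b b.2 with h | h
        · exact Or.inr ⟨h, fun h' => hkE (by simpa [← mul_assoc] using E.mul_mem (E.inv_mem h) h')⟩
        · exact Or.inl ⟨h, fun h' => hkE (by simpa [← mul_assoc] using E.mul_mem (E.inv_mem h') h)⟩
      have h2 := (E.subgroupOf E').card_mul_index
      rw [Nat.card_congr (Subgroup.subgroupOfEquivOfLe (le_sup_left : E ≤ E')).toEquiv] at h2
      change Nat.card E * E.relIndex E' = _ at h2
      rw [← h2, h1, mul_comm]
    have hpos := Nat.card_pos (α := E)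
    obtain ⟨r, hr, hdeg⟩ := ih E' hE'K (by omega)
    refine ⟨r + 1, by rw [hr, hcardE', pow_succ]; ring, ?_⟩
    have hd := deg_mul (2 * r + 2) (2 * r) 2 _ _ rfl hdeg (deg_indicator K hK hZ M hMK hrel)
    have hf : (fun x : H => if x * x ∈ E then (1 : ZMod 2) else 0) =
        fun x => (if x * x ∈ E' then (1 : ZMod 2) else 0) * (if x * x ∈ M then 1 else 0) := funext fun x => by
      by_cases h1 : x * x ∈ E' <;> by_cases h2 : x * x ∈ M <;> simp [h1, h2, hinter]
    rw [hf, show 2 * (r + 1) = 2 * r + 2 by ring]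
    exact hd

end Cfsg.Agent.Squaring
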