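/-
Groups of order nine acting on a 2-group with at most three involutions (helper70).

Main results (namespace `Cfsg.Agent.Squaring`):
* `rankTwo_contra`: a group `D` of order divisible by `9` acting on a 2-group `P` whose involutions
  form a central subgroup `W` of order at most `4` cannot contain an element of order `3` that
  centralises `W` but not `P`, if every nonidentity element of `D` either has `c` as a power or is
  fixed-point-free on `W`.
* `mem_zpowers_of_order_three`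
-/
import Cfsg.Agent.Lib.Squaring.Basic
import Cfsg.Agent.Lib.PGroup.Basic

set_option autoImplicit false
set_option linter.style.haveILetI false
open scoped commutatorElement

namespace Cfsg.Agent.Squaring

open Subgroup

theorem rankTwo_contra {X : Type*} [Group X] [Finite X] {P W D : Subgroup X} {c : X}
    (hP : IsPGroup 2 P) (hWP : W ≤ P) (hinv : ∀ x ∈ P, x * x = 1 → x ∈ W)
    (hW2 : ∀ w ∈ W, w * w = 1) (hWc : ∀ w ∈ W, ∀ x ∈ P, Commute w x) (hW4 : Nat.card W ≤ 4)
    (hDP : ∀ g ∈ D, ∀ x ∈ P, g * x * g⁻¹ ∈ P) (hDW : ∀ g ∈ D, ∀ w ∈ W, g * w * g⁻¹ ∈ W)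
    (hcD : c ∈ D) (hc3 : c ^ 3 = 1) (hcom : ∀ g ∈ D, Commute c g)
    (hcW : ∀ w ∈ W, c * w * c⁻¹ = w) (hcP : ∃ x ∈ P, c * x * c⁻¹ ≠ x) (h9 : 9 ∣ Nat.card D)
    (hsemi : ∀ g ∈ D, g ≠ 1 → c ∈ zpowers g ∨ ∀ w ∈ W, g * w * g⁻¹ = w → w = 1) : False := by
  classical
  haveI : Fact (Nat.Prime 2) := ⟨Nat.prime_two⟩
  -- a minimal invariant subgroup not centralised by `c`
  obtain ⟨U, -, hUmin⟩ := Finite.exists_le_minimal (α := Subgroup X)
    (p := fun U => W ≤ U ∧ U ≤ P ∧ (∀ g ∈ D, ∀ u ∈ U, g * u * g⁻¹ ∈ U) ∧ ∃ u ∈ U, c * u * c⁻¹ ≠ u)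
    (a := P) ⟨hWP, le_rfl, hDP, hcP⟩
  obtain ⟨hWU, hUP, hDU, u₀, hu₀, hu₀c⟩ := hUmin.prop
  have hU2 : IsPGroup 2 U := hP.to_le hUP
  -- a subgroup that contains all displacements is everything
  have hall : ∀ T : Subgroup X, W ≤ T → T ≤ U → (∀ g ∈ D, ∀ u ∈ T, g * u * g⁻¹ ∈ T) →
      (∀ u ∈ U, u⁻¹ * (c * u * c⁻¹) ∈ T) → U ≤ T := by
    intro T hWT hTU hDT hdis
    refine hUmin.2 ⟨hWT, hTU.trans hUP, hDT, ?_⟩ hTU
    by_contra hcon
    push Not at hcon
    set k := u₀⁻¹ * (c * u₀ * c⁻¹) with hk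
    have hck : c * k * c⁻¹ = k := hcon k (hdis u₀ hu₀)
    have e1 : c * u₀ * c⁻¹ = u₀ * k := by rw [hk, mul_inv_cancel_left]
    have e2 : ∀ i : ℕ, c ^ i * u₀ * (c ^ i)⁻¹ = u₀ * k ^ i := by
      intro i
      induction i with
      | zero => simp
      | succ i ih =>
        calc c ^ (i + 1) * u₀ * (c ^ (i + 1))⁻¹ = c * (c ^ i * u₀ * (c ^ i)⁻¹) * c⁻¹ := by
              rw [pow_succ']; group
          _ = (c * u₀ * c⁻¹) * (c * k ^ i * c⁻¹) := by rw [ih]; group
          _ = _ := by rw [e1, ← conj_pow, hck, mul_assoc, ← pow_succ']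
    have e3 := e2 3
    rw [hc3, one_mul, inv_one, mul_one, left_eq_mul] at e3
    have hkU : k ∈ U := mul_mem (inv_mem hu₀) (hDU c hcD u₀ hu₀)
    obtain ⟨i, hi⟩ := IsPGroup.iff_orderOf.mp hU2 ⟨k, hkU⟩
    rw [Subgroup.orderOf_mk] at hi
    have h4 : orderOf k = 1 := Nat.eq_one_of_dvd_coprimes
      ((Nat.coprime_primes Nat.prime_two Nat.prime_three).mpr (by norm_num) |>.pow_left i)
      (dvd_of_eq hi) (orderOf_dvd_of_pow_eq_one e3)
    rw [orderOf_eq_one_iff.mp h4, mul_one] at e1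
    exact hu₀c e1
  -- the Frattini subgroup is central
  set N : Subgroup X := (frattini U).map U.subtype ⊔ W with hN
  have hNU : N ≤ U := sup_le (map_subtype_le _) hWU
  have hNinv : ∀ g ∈ D, ∀ n ∈ N, g * n * g⁻¹ ∈ N := by
    intro g hg
    have hle : N ≤ N.comap (MulAut.conj g).toMonoidHom := by
      refine sup_le ?_ fun w hw => mem_sup_right (hDW g hg w hw)
      rintro _ ⟨f, hf, rfl⟩
      let ψ : U ≃* U := MulEquiv.ofBijective
        (MonoidHom.mk' (fun u : U => (⟨g * u * g⁻¹, hDU g hg u u.2⟩ : U))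
          fun a b => Subtype.ext (by simp [mul_assoc]))
        (Finite.injective_iff_bijective.mp fun a b e => Subtype.ext (by
          simpa using congrArg Subtype.val e))
      refine mem_sup_left ⟨ψ f, ?_, rfl⟩
      have := (inferInstance : (frattini U).Characteristic).fixed ψ
      rw [← this] at hf
      exact hf
    exact fun n hn => hle hn
  have hNc : ∀ n ∈ N, c * n * c⁻¹ = n := by
    by_contra hcon
    push Not at hcon
    obtain ⟨n, hn, hne⟩ := hcon
    have hUN : U ≤ N := hUmin.2 ⟨le_sup_right, hNU.trans hUP, hNinv, n, hn, hne⟩ hNU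
    have h1 : frattini U ⊔ W.subgroupOf U = ⊤ := by
      refine Subgroup.map_injective U.subtype_injective ?_
      rw [Subgroup.map_sup, Subgroup.map_subgroupOf_eq_of_le hWU, ← hN, ← MonoidHom.range_eq_map,
        range_subtype]
      exact le_antisymm hNU hUN
    rw [sup_comm] at h1
    have h2 := frattini_nongenerating h1
    rw [subgroupOf_eq_top] at h2
    exact hu₀c (hcW _ (h2 hu₀))
  have hNz : ∀ n ∈ N, ∀ u ∈ U, Commute u n := by
    intro n hn
    have key := hall (U ⊓ centralizer (N : Set X))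
      (fun w hw => ⟨hWU hw, mem_centralizer_iff.mpr fun m hm => (hWc w hw m (hUP (hNU hm))).symm⟩)
      inf_le_left (fun g hg u hu => ⟨hDU g hg u hu.1, mem_centralizer_iff.mpr fun m hm => by
        have h1 := mem_centralizer_iff.mp hu.2 (g⁻¹ * m * g⁻¹⁻¹) (hNinv _ (inv_mem hg) m hm)
        calc m * (g * u * g⁻¹) = g * ((g⁻¹ * m * g⁻¹⁻¹) * u) * g⁻¹ := by group
          _ = g * (u * (g⁻¹ * m * g⁻¹⁻¹)) * g⁻¹ := by rw [h1]
          _ = _ := by group⟩)
      (fun u hu => ⟨U.mul_mem (U.inv_mem hu) (hDU c hcD u hu), mem_centralizer_iff.mpr fun m hm => by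
        have hm' : u * m * u⁻¹ ∈ N := by
          have h1 : (⁅(⟨u, hu⟩ : U), ⟨m, hNU hm⟩⁆ : U) ∈ frattini U :=
            PGroup.commutator_le_frattini hU2 (commutator_mem_commutator (mem_top _) (mem_top _))
          have h2 : ⁅u, m⁆ ∈ N := mem_sup_left ⟨_, h1, rfl⟩
          simpa [commutatorElement_def] using N.mul_mem h2 hm
        have h2 := hNc _ hm'
        have h3 := hNc _ hm
        have h4 : (c * u * c⁻¹) * m * (c * u * c⁻¹)⁻¹ = u * m * u⁻¹ := by
          refine Eq.trans ?_ h2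
          calc (c * u * c⁻¹) * m * (c * u * c⁻¹)⁻¹
              = (c * u * c⁻¹) * (c * m * c⁻¹) * (c * u * c⁻¹)⁻¹ := by rw [h3]
            _ = _ := by group
        calc m * (u⁻¹ * (c * u * c⁻¹)) = u⁻¹ * (u * m * u⁻¹) * (c * u * c⁻¹) := by group
          _ = u⁻¹ * ((c * u * c⁻¹) * m * (c * u * c⁻¹)⁻¹) * (c * u * c⁻¹) := by rw [h4]
          _ = _ := by group⟩)
    exact fun u hu => (mem_centralizer_iff.mp (key hu).2 n hn).symm
  have hfr : ∀ u ∈ U, u * u ∈ N := fun u hu => mem_sup_left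
    ⟨⟨u, hu⟩ * ⟨u, hu⟩, by rw [← pow_two]; exact PGroup.pow_mem_frattini hU2 _, rfl⟩
  have hUU : ∀ x ∈ U, ∀ y ∈ U, ⁅x, y⁆ ∈ W := by
    intro x hx y hy
    have hc : ⁅x, y⁆ ∈ N :=
      mem_sup_left ⟨⁅(⟨x, hx⟩ : U), ⟨y, hy⟩⁆,
        PGroup.commutator_le_frattini hU2 (commutator_mem_commutator (mem_top _) (mem_top _)), rfl⟩
    refine hinv _ (hUP (hNU hc)) ?_
    have h1 : ⁅x * x, y⁆ = ⁅x, y⁆ * ⁅x, y⁆ := by
      simp only [commutatorElement_def]
      have h2 := (hNz _ hc x hx).eq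
      simp only [commutatorElement_def] at h2
      calc x * x * y * (x * x)⁻¹ * y⁻¹ = x * (x * y * x⁻¹ * y⁻¹) * (y * x⁻¹ * y⁻¹) := by group
        _ = (x * y * x⁻¹ * y⁻¹) * x * (y * x⁻¹ * y⁻¹) := by rw [h2]
        _ = _ := by group
    rw [← h1, commutatorElement_eq_one_iff_mul_comm]
    exact (hNz _ (hfr x hx) y hy).symm.eq
  have hsq_mul : ∀ a ∈ U, ∀ b ∈ U, a * b * (a * b) = (a * a) * ⁅a⁻¹, b⁆ * (b * b) := fun a _ b _ => by
    simp only [commutatorElement_def]; group
  have hsqW : ∀ u ∈ U, u * u ∈ W := by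
    let T : Subgroup X :=
      { carrier := {u | u ∈ U ∧ u * u ∈ W}
        one_mem' := ⟨one_mem _, by rw [one_mul]; exact one_mem _⟩
        mul_mem' := fun {a b} ha hb => ⟨mul_mem ha.1 hb.1, by
          rw [hsq_mul a ha.1 b hb.1]
          exact mul_mem (mul_mem ha.2 (hUU _ (inv_mem ha.1) _ hb.1)) hb.2⟩
        inv_mem' := fun {a} ha => ⟨inv_mem ha.1, by rw [← mul_inv_rev]; exact inv_mem ha.2⟩ }
    have key := hall T (fun w hw => ⟨hWU hw, by rw [hW2 w hw]; exact one_mem _⟩) (fun u hu => hu.1)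
      (fun g hg u hu => ⟨hDU g hg u hu.1, by
        rw [show g * u * g⁻¹ * (g * u * g⁻¹) = g * (u * u) * g⁻¹ by group]; exact hDW g hg _ hu.2⟩)
      (fun u hu => ⟨mul_mem (inv_mem hu) (hDU c hcD u hu), by
        set x := u⁻¹ * (c * u * c⁻¹) with hx
        have hxU : x ∈ U := mul_mem (inv_mem hu) (hDU c hcD u hu)
        have e : (u * x) * (u * x) = u * u := by
          rw [hx, mul_inv_cancel_left]
          exact Eq.trans (by group) (hNc _ (hfr u hu))
        rw [hsq_mul u hu x hxU, mul_assoc, mul_eq_left] at e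
        rw [eq_inv_of_mul_eq_one_right e]
        exact inv_mem (hUU _ (inv_mem hu) _ hxU)⟩)
    exact fun u hu => (key hu).2
  -- the quotient `U / W`
  set W' : Subgroup U := W.subgroupOf U with hW'
  haveI hW'n : W'.Normal := ⟨fun w hw g => by
    rw [hW', mem_subgroupOf] at hw ⊢
    have e : (g : X) * w * (g : X)⁻¹ = w := by
      rw [← (hWc _ hw g (hUP g.2)).eq, mul_inv_cancel_right]
    simpa [e] using hw⟩
  have hW'c : W' ≤ center U := fun w hw => mem_center_iff.mpr fun g =>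
    Subtype.ext (hWc _ hw g (hUP g.2)).symm.eq
  have hVne : ∃ q : U ⧸ W', q ≠ 1 := ⟨((⟨u₀, hu₀⟩ : U) : U ⧸ W'), fun e => by
    rw [QuotientGroup.eq_one_iff, hW', mem_subgroupOf] at e
    exact hu₀c (hcW _ e)⟩
  have hcardU : Nat.card U ≤ Nat.card W' * Nat.card W' ^ 2 := by
    have h := card_mul_sq_le W' (fun x => hsqW x x.2) hW'c
      (fun w hw => Subtype.ext (hW2 _ hw)) ⊥ bot_le
    rw [card_bot, one_pow, mul_one] at h
    refine h.trans (Nat.mul_le_mul_right _ ?_)
    refine Nat.card_le_card_of_injective (fun x => (⟨x.1, ?_⟩ : W')) fun a b e =>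
      Subtype.ext (by simpa using congrArg Subtype.val e)
    have h2 : (x.1 : X) * x.1 = 1 := congrArg Subtype.val (mem_bot.mp x.2)
    exact hinv _ (hUP x.1.2) h2
  have hV16 : Nat.card (U ⧸ W') ≤ 16 := by
    have h1 := card_eq_card_quotient_mul_card_subgroup W'
    have h2 : Nat.card W' ≤ 4 := by
      rw [hW', Nat.card_congr (subgroupOfEquivOfLe hWU).toEquiv]; exact hW4
    have h3 : 0 < Nat.card W' := Nat.card_pos
    have h4 : Nat.card (U ⧸ W') ≤ Nat.card W' ^ 2 :=
      Nat.le_of_mul_le_mul_right (by rw [← h1]; exact hcardU.trans (by rw [mul_comm])) h3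
    exact h4.trans (Nat.pow_le_pow_left h2 2)
  -- `c` is fixed-point-free on `U / W`
  have hcfpf : ∀ u ∈ U, u⁻¹ * (c * u * c⁻¹) ∈ W → u ∈ W := by
    let τ : U ⧸ W' → U ⧸ W' := fun q =>
      (((q.out : U)⁻¹ * ⟨c * (q.out : U) * c⁻¹, hDU c hcD _ (q.out : U).2⟩ : U) : U ⧸ W')
    have hτ : ∀ u : U, τ (u : U ⧸ W') = ((u⁻¹ * ⟨c * u * c⁻¹, hDU c hcD _ u.2⟩ : U) : U ⧸ W') := by
      intro u
      obtain ⟨⟨w, hw⟩, hu⟩ := QuotientGroup.mk_out_eq_mul W' u
      have hu' : (((u : U ⧸ W').out : U) : X) = (u : X) * w := congrArg Subtype.val hu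
      refine (QuotientGroup.eq.mpr ?_)
      rw [hW', mem_subgroupOf]
      simp only [Subgroup.coe_mul, Subgroup.coe_inv]
      rw [← hW', hu']
      have hwW : (w : X) ∈ W := hw
      have hw1 : c * (w : X) * c⁻¹ = w := hcW _ hwW
      have e : c * ((u : X) * w) * c⁻¹ = c * u * c⁻¹ * w := by
        calc c * ((u : X) * w) * c⁻¹ = c * u * c⁻¹ * (c * w * c⁻¹) := by group
          _ = _ := by rw [hw1]
      rw [e]
      have hcomm : Commute (w : X) ((u : X)⁻¹ * (c * u * c⁻¹)) :=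
        hWc _ hwW _ (hUP (mul_mem (inv_mem u.2) (hDU c hcD _ u.2)))
      rw [show ((u : X) * w)⁻¹ * (c * u * c⁻¹ * w) = (w : X)⁻¹ * ((u : X)⁻¹ * (c * u * c⁻¹)) * w by group,
        show (w : X)⁻¹ * ((u : X)⁻¹ * (c * u * c⁻¹)) * w = (u : X)⁻¹ * (c * u * c⁻¹) by
          rw [mul_assoc, ← hcomm.eq, inv_mul_cancel_left], inv_mul_cancel]
      exact one_mem _
    let R : Subgroup X :=
      { carrier := {y | y ∈ U ∧ ∃ u ∈ U, (u⁻¹ * (c * u * c⁻¹))⁻¹ * y ∈ W}
        one_mem' := ⟨one_mem _, 1, one_mem _, by simp⟩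
        mul_mem' := by
          rintro a b ⟨ha, u, hu, hua⟩ ⟨hb, v, hv, hvb⟩
          refine ⟨mul_mem ha hb, u * v, mul_mem hu hv, ?_⟩
          have hx : ∀ z ∈ U, c * z * c⁻¹ ∈ U := fun z hz => hDU c hcD z hz
          set A := u⁻¹ * (c * u * c⁻¹) with hA
          set B := v⁻¹ * (c * v * c⁻¹) with hB
          have hAU : A ∈ U := mul_mem (inv_mem hu) (hx u hu)
          have hBU : B ∈ U := mul_mem (inv_mem hv) (hx v hv)
          have e : (u * v)⁻¹ * (c * (u * v) * c⁻¹) = ⁅v⁻¹, A⁆ * A * B := by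
            rw [hA, hB]; simp only [commutatorElement_def]; group
          rw [e, show (⁅v⁻¹, A⁆ * A * B)⁻¹ * (a * b) =
            B⁻¹ * (A⁻¹ * ⁅v⁻¹, A⁆⁻¹ * a) * b by group]
          have h1 : A⁻¹ * ⁅v⁻¹, A⁆⁻¹ * a ∈ W := by
            have h := hUU _ (inv_mem hv) _ hAU
            rw [← (hWc _ (inv_mem h) _ (inv_mem (hUP hAU))).eq, mul_assoc]
            exact mul_mem (inv_mem h) hua
          rw [← (hWc _ h1 _ (inv_mem (hUP hBU))).eq, mul_assoc]
          exact mul_mem h1 hvb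
        inv_mem' := by
          rintro a ⟨ha, u, hu, hua⟩
          refine ⟨inv_mem ha, u⁻¹, inv_mem hu, ?_⟩
          set A := u⁻¹ * (c * u * c⁻¹) with hA
          have hAU : A ∈ U := mul_mem (inv_mem hu) (hDU c hcD u hu)
          have e : u⁻¹⁻¹ * (c * u⁻¹ * c⁻¹) = ⁅u, A⁻¹⁆ * A⁻¹ := by
            rw [hA]; simp only [commutatorElement_def]; group
          rw [e, show (⁅u, A⁻¹⁆ * A⁻¹)⁻¹ * a⁻¹ = A * ⁅u, A⁻¹⁆⁻¹ * a⁻¹ by group]
          have h := inv_mem (hUU _ hu _ (inv_mem hAU))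
          rw [← (hWc _ h _ (hUP hAU)).eq, mul_assoc]
          refine mul_mem h ?_
          have h2 := inv_mem hua
          rw [mul_inv_rev, inv_inv] at h2
          rw [show A * a⁻¹ = A * (a⁻¹ * A) * A⁻¹ by group,
            ← (hWc _ h2 _ (hUP hAU)).eq, mul_inv_cancel_right]
          exact h2 }
    have key := hall R (fun w hw => ⟨hWU hw, 1, one_mem _, by simpa using hw⟩) (fun y hy => hy.1)
      (fun g hg y hy' => by
        obtain ⟨hy, u, hu, huy⟩ := hy'
        refine ⟨hDU g hg y hy, g * u * g⁻¹, hDU g hg u hu, ?_⟩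
        have h1 := hDW g hg _ huy
        have hcg := (hcom g hg).eq
        have e : c * (g * u * g⁻¹) * c⁻¹ = g * (c * u * c⁻¹) * g⁻¹ := by
          calc c * (g * u * g⁻¹) * c⁻¹ = (c * g) * u * (c * g)⁻¹ := by group
            _ = (g * c) * u * (g * c)⁻¹ := by rw [hcg]
            _ = _ := by group
        rw [e]
        convert h1 using 1
        group)
      (fun u hu => ⟨mul_mem (inv_mem hu) (hDU c hcD u hu), u, hu, by
        rw [inv_mul_cancel]; exact one_mem _⟩)
    have hsurj : Function.Surjective τ := by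
      intro q
      induction q using QuotientGroup.induction_on with | H y => ?_
      obtain ⟨-, u, hu, huy⟩ := key y.2
      refine ⟨((⟨u, hu⟩ : U) : U ⧸ W'), ?_⟩
      rw [hτ, QuotientGroup.eq, hW', mem_subgroupOf]
      exact huy
    have hinj := Finite.injective_iff_surjective.mpr hsurj
    intro u hu huW
    have h1 : τ ((⟨u, hu⟩ : U) : U ⧸ W') = τ ((1 : U) : U ⧸ W') := by
      rw [hτ, hτ, QuotientGroup.eq, hW', mem_subgroupOf]
      simpa using inv_mem huW
    have h2 := hinj h1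
    rw [QuotientGroup.mk_one, QuotientGroup.eq_one_iff, hW', mem_subgroupOf] at h2
    exact h2
  -- `D` acts semiregularly on the nontrivial cosets
  have hfix : ∀ g ∈ D, g ≠ 1 → ∀ u ∈ U, u⁻¹ * (g * u * g⁻¹) ∈ W → u ∈ W := by
    intro g hg hg1 u hu huW
    rcases hsemi g hg hg1 with h | h
    · refine hcfpf u hu ?_
      let S : Subgroup X :=
        { carrier := {y | y ∈ D ∧ u⁻¹ * (y * u * y⁻¹) ∈ W}
          one_mem' := ⟨one_mem _, by simp⟩
          mul_mem' := fun {a b} ha hb => ⟨mul_mem ha.1 hb.1, by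
            have h3 := mul_mem ha.2 (hDW a ha.1 _ hb.2)
            convert h3 using 1
            group⟩
          inv_mem' := fun {a} ha => ⟨inv_mem ha.1, by
            have h3 := inv_mem (hDW a⁻¹ (inv_mem ha.1) _ ha.2)
            convert h3 using 1
            group⟩ }
      exact (zpowers_le.mpr (show g ∈ S from ⟨hg, huW⟩) h).2
    · refine hinv u (hUP hu) (h _ (hsqW u hu) ?_)
      set w := u⁻¹ * (g * u * g⁻¹) with hw
      have e : g * u * g⁻¹ = u * w := by rw [hw, mul_inv_cancel_left]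
      rw [show g * (u * u) * g⁻¹ = (g * u * g⁻¹) * (g * u * g⁻¹) by group, e]
      calc u * w * (u * w) = u * (w * u) * w := by group
        _ = u * (u * w) * w := by rw [(hWc w huW u (hUP hu)).eq]
        _ = u * u * (w * w) := by group
        _ = _ := by rw [hW2 w huW, mul_one]
  let conjQ : ↥D → U ⧸ W' → U ⧸ W' := fun g q =>
    ((⟨(g : X) * (q.out : U) * (g : X)⁻¹, hDU g g.2 _ (q.out : U).2⟩ : U) : U ⧸ W')
  have hconjQ : ∀ (g : D) (u : U), conjQ g (u : U ⧸ W') =
      ((⟨(g : X) * u * (g : X)⁻¹, hDU g g.2 _ u.2⟩ : U) : U ⧸ W') := by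
    intro g u
    obtain ⟨⟨w, hw⟩, hu⟩ := QuotientGroup.mk_out_eq_mul W' u
    have hu' : (((u : U ⧸ W').out : U) : X) = (u : X) * w := congrArg Subtype.val hu
    refine (QuotientGroup.eq.mpr ?_).symm
    rw [hW', mem_subgroupOf]
    simp only [Subgroup.coe_mul, Subgroup.coe_inv]
    rw [← hW', hu']
    have h1 := hDW g g.2 _ (show (w : X) ∈ W from hw)
    convert h1 using 1
    group
  let inst : MulAction D {q : U ⧸ W' // q ≠ 1} :=
    { smul := fun g q => ⟨conjQ g q.1, fun e => q.2 (by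
        obtain ⟨u, hu⟩ := QuotientGroup.mk_surjective q.1
        rw [← hu] at e ⊢
        rw [hconjQ, QuotientGroup.eq_one_iff, hW', mem_subgroupOf] at e
        rw [QuotientGroup.eq_one_iff, hW', mem_subgroupOf]
        have h1 := hDW (g : X)⁻¹ (inv_mem g.2) _ e
        convert h1 using 1
        simp [mul_assoc])⟩
      one_smul := fun q => Subtype.ext (by
        obtain ⟨u, hu⟩ := QuotientGroup.mk_surjective q.1
        show conjQ 1 q.1 = q.1
        rw [← hu, hconjQ]
        congr 1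
        exact Subtype.ext (by simp))
      mul_smul := fun a b q => Subtype.ext (by
        obtain ⟨u, hu⟩ := QuotientGroup.mk_surjective q.1
        show conjQ (a * b) q.1 = conjQ a (conjQ b q.1)
        rw [← hu, hconjQ, hconjQ b u, hconjQ]
        congr 1
        exact Subtype.ext (by simp [mul_assoc])) }
  have hstab : ∀ q : {q : U ⧸ W' // q ≠ 1}, MulAction.stabilizer D q = ⊥ := by
    intro q
    rw [eq_bot_iff_forall]
    intro g hg
    by_contra hne
    obtain ⟨u, hu⟩ := QuotientGroup.mk_surjective q.1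
    have h1 : conjQ g q.1 = q.1 := congrArg Subtype.val hg
    rw [← hu, hconjQ, eq_comm, QuotientGroup.eq, hW', mem_subgroupOf] at h1
    apply q.2
    rw [← hu, QuotientGroup.eq_one_iff, hW', mem_subgroupOf]
    exact hfix g g.2 (fun e => hne (Subtype.ext e)) u u.2 h1
  have hdvd : 9 ∣ Nat.card {q : U ⧸ W' // q ≠ 1} := by
    refine h9.trans (Dvd.intro_left
      (Nat.card (MulAction.orbitRel.Quotient D {q : U ⧸ W' // q ≠ 1})) ?_)
    rw [← Nat.card_prod]
    refine (Nat.card_congr ((MulAction.selfEquivSigmaOrbitsQuotientStabilizer _ _).trans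
      (Equiv.sigmaEquivProdOfEquiv fun ω => ?_))).symm
    rw [hstab]
    exact (QuotientGroup.quotientBot (G := D)).toEquiv
  have hcard1 : Nat.card {q : U ⧸ W' // q ≠ 1} = Nat.card (U ⧸ W') - 1 := by
    haveI := Fintype.ofFinite (U ⧸ W')
    rw [Nat.card_eq_fintype_card, Nat.card_eq_fintype_card]
    simp [Fintype.card_subtype_compl]
  obtain ⟨j, hj⟩ := IsPGroup.iff_card.mp (hU2.to_quotient W')
  rw [hcard1, hj] at hdvd
  rw [hj] at hV16
  obtain ⟨q₁, hq₁⟩ := hVne
  have hj0 : j ≠ 0 := fun h => by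
    rw [h, pow_zero, Nat.card_eq_one_iff_unique] at hj
    haveI := hj.1
    exact hq₁ (Subsingleton.elim _ _)
  have hj4 : j ≤ 4 := by
    by_contra h
    have := Nat.pow_le_pow_right (n := 2) (i := 5) (j := j) (by norm_num) (by omega)
    omega
  interval_cases j <;> omega

/-- In a cyclic 3-group the elements of order three lie in every nontrivial subgroup. -/
theorem mem_zpowers_of_order_three {X : Type*} [Group X] {d g c : X} {n : ℕ}
    (hd : orderOf d = 3 ^ n) (hg : g ∈ zpowers d) (hg1 : g ≠ 1) (hc : c ∈ zpowers d)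
    (hc3 : c ^ 3 = 1) : c ∈ zpowers g := by
  haveI : Finite (zpowers d) :=
    Nat.finite_of_card_ne_zero (by rw [Nat.card_zpowers, hd]; positivity)
  obtain ⟨⟨j, hgj⟩⟩ : Nonempty {j // orderOf g = 3 ^ (j + 1)} := by
    have h1 : orderOf g ∣ 3 ^ n := by
      have := orderOf_dvd_natCard (⟨g, hg⟩ : zpowers d)
      rwa [Subgroup.orderOf_mk, Nat.card_zpowers, hd] at this
    obtain ⟨j, -, hj⟩ := (Nat.dvd_prime_pow Nat.prime_three).mp h1
    rcases j with _ | j
    · rw [pow_zero, orderOf_eq_one_iff] at hj; exact absurd hj hg1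
    · exact ⟨⟨j, hj⟩⟩
  set b := g ^ (3 ^ j) with hb
  have hbo : orderOf b = 3 := by
    rw [hb, orderOf_pow' _ (by positivity), hgj, Nat.gcd_eq_right (pow_dvd_pow 3 (by omega)),
      Nat.pow_div (by omega) (by norm_num)]
    simp
  haveI : IsCyclic (zpowers d) := inferInstance
  classical
  haveI := Fintype.ofFinite (zpowers d)
  suffices h : c ∈ zpowers b by
    exact zpowers_le.mpr (pow_mem (mem_zpowers g) _) h
  by_contra hcb
  have hb2 : b * b ≠ 1 := fun e => by
    have := orderOf_dvd_of_pow_eq_one (show b ^ 2 = 1 by rw [pow_two]; exact e)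
    rw [hbo] at this; norm_num at this
  have hb3 : b ^ 3 = 1 := by rw [← hbo]; exact pow_orderOf_eq_one b
  have hbm : b ∈ zpowers d := pow_mem hg _
  have hsub : ({1, ⟨b, hbm⟩, ⟨b * b, mul_mem hbm hbm⟩, ⟨c, hc⟩} : Finset (zpowers d)) ⊆
      Finset.univ.filter (fun a => a ^ 3 = 1) := by
    intro a ha
    simp only [Finset.mem_insert, Finset.mem_singleton] at ha
    refine Finset.mem_filter.mpr ⟨Finset.mem_univ _, ?_⟩
    rcases ha with rfl | rfl | rfl | rfl
    · exact one_pow 3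
    · exact Subtype.ext hb3
    · exact Subtype.ext (by
        show (b * b) ^ 3 = 1
        rw [(Commute.refl b).mul_pow, hb3, one_mul])
    · exact Subtype.ext hc3
  have h4 := (Finset.card_le_card hsub).trans (IsCyclic.card_pow_eq_one_le (by norm_num))
  rw [Finset.card_insert_of_notMem, Finset.card_insert_of_notMem, Finset.card_insert_of_notMem,
    Finset.card_singleton] at h4
  · omega
  · simp only [Finset.mem_singleton, Subtype.mk.injEq]
    exact fun e => hcb (e ▸ mul_mem (mem_zpowers b) (mem_zpowers b))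
  · simp only [Finset.mem_insert, Finset.mem_singleton, Subtype.mk.injEq, not_or]
    exact ⟨fun e => hb2 (by rw [left_eq_mul.mp e, mul_one]), fun e => hcb (e ▸ mem_zpowers b)⟩
  · simp only [Finset.mem_insert, Finset.mem_singleton, Subtype.ext_iff, OneMemClass.coe_one, not_or]
    exact ⟨fun e => hb2 (by rw [← e, one_mul]), fun e => hb2 e.symm, fun e => hcb (e ▸ one_mem _)⟩

end Cfsg.Agent.Squaring
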