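/-
A 3-element acting on a 2-group without elementary abelian subgroups of order eight (helper70).

Main result (namespace `Cfsg.Agent.Squaring`): `rankTwo_setup`, `sup_elementary`,
`three_le_card`, `mem_of_card_four`.
-/
import Cfsg.Agent.Lib.PGroup.Basic

set_option autoImplicit false
set_option linter.style.haveILetI false

namespace Cfsg.Agent.Squaring

open Subgroup

theorem sup_elementary {X : Type*} [Group X] {A B : Subgroup X} {p : ℕ}
    (hA : Cfsg.IsElementaryAbelian p A) (hB : Cfsg.IsElementaryAbelian p B)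
    (h : ∀ a ∈ A, ∀ b ∈ B, Commute a b) : Cfsg.IsElementaryAbelian p (A ⊔ B : Subgroup X) := by
  have hcom : ∀ (a : A) (b : B), Commute (A.subtype a) (B.subtype b) := fun a b => h a a.2 b b.2
  have hr : (A.subtype.noncommCoprod B.subtype hcom).range = A ⊔ B := by
    rw [MonoidHom.noncommCoprod_range, range_subtype, range_subtype]
  have hmem : ∀ y ∈ A ⊔ B, ∃ a ∈ A, ∃ b ∈ B, y = a * b := by
    intro y hy
    rw [← hr] at hy
    obtain ⟨⟨⟨a, ha⟩, ⟨b, hb⟩⟩, rfl⟩ := hy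
    exact ⟨a, ha, b, hb, rfl⟩
  refine ⟨⟨⟨?_⟩⟩, ?_⟩
  · rintro ⟨u, hu⟩ ⟨v, hv⟩
    obtain ⟨a, ha, b, hb, rfl⟩ := hmem u hu
    obtain ⟨a', ha', b', hb', rfl⟩ := hmem v hv
    refine Subtype.ext ?_
    have h1 : Commute a a' := congrArg Subtype.val (hA.1.is_comm.comm ⟨a, ha⟩ ⟨a', ha'⟩)
    have h2 : Commute b b' := congrArg Subtype.val (hB.1.is_comm.comm ⟨b, hb⟩ ⟨b', hb'⟩)
    exact ((h1.mul_right (h a ha b' hb')).mul_left ((h a' ha' b hb).symm.mul_right h2)).eq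
  · intro y hy
    obtain ⟨a, ha, b, hb, rfl⟩ := hmem y hy
    rw [(h a ha b hb).mul_pow, hA.2 a ha, hB.2 b hb, one_mul]

theorem three_le_card {X : Type*} [Group X] {A : Subgroup X} [Finite A] {a b : X} (ha : a ∈ A)
    (hb : b ∈ A) (ha1 : a ≠ 1) (hb1 : b ≠ 1) (hab : a ≠ b) : 3 ≤ Nat.card A := by
  have : Function.Injective (![1, ⟨a, ha⟩, ⟨b, hb⟩] : Fin 3 → A) := by
    intro i j hij
    fin_cases i <;> fin_cases j <;>
      simp_all [Subtype.ext_iff, Ne.symm ha1, Ne.symm hb1, Ne.symm hab]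
  simpa using Nat.card_le_card_of_injective _ this

theorem mem_of_card_four {X : Type*} [Group X] {A : Subgroup X} [Finite A] (hA : Nat.card A = 4)
    (hexp : ∀ a ∈ A, a * a = 1) {w v : X} (hw : w ∈ A) (hv : v ∈ A) (hw1 : w ≠ 1) (hv1 : v ≠ 1)
    (hwv : w ≠ v) {u : X} (hu : u ∈ A) : u = 1 ∨ u = w ∨ u = v ∨ u = w * v := by
  classical
  haveI := Fintype.ofFinite A
  let s : Finset A := {1, ⟨w, hw⟩, ⟨v, hv⟩, ⟨w * v, mul_mem hw hv⟩}
  have a1 : w * v ≠ w := fun e => hv1 (mul_eq_left.mp e)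
  have a2 : w * v ≠ v := fun e => hw1 (mul_eq_right.mp e)
  have a3 : w * v ≠ 1 := fun e => hwv (by
    rw [eq_inv_of_mul_eq_one_left e, inv_eq_of_mul_eq_one_left (hexp v hv)])
  have hs : s.card = 4 := by
    rw [Finset.card_insert_of_notMem, Finset.card_insert_of_notMem, Finset.card_insert_of_notMem,
      Finset.card_singleton]
    · simp only [Finset.mem_singleton, Subtype.mk.injEq]
      exact a2.symm
    · simp only [Finset.mem_insert, Finset.mem_singleton, Subtype.mk.injEq, not_or]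
      exact ⟨hwv, a1.symm⟩
    · simp only [Finset.mem_insert, Finset.mem_singleton, Subtype.ext_iff, OneMemClass.coe_one, not_or]
      exact ⟨hw1.symm, hv1.symm, a3.symm⟩
  have hall : s = Finset.univ := Finset.eq_univ_of_card s (by rw [hs, ← Nat.card_eq_fintype_card, hA])
  have hm : (⟨u, hu⟩ : A) ∈ s := hall ▸ Finset.mem_univ _
  simpa [s, Subtype.ext_iff] using hm

/-- The involutions of `P` form a central four-group permuted transitively by `d`. -/
theorem rankTwo_setup {X : Type*} [Group X] [Finite X] {P W : Subgroup X} {d : X} {n : ℕ}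
    (hd : orderOf d = 3 ^ n) (hP : IsPGroup 2 P) (hdP : ∀ x ∈ P, d * x * d⁻¹ ∈ P)
    (hrank : ∀ E : Subgroup X, E ≤ P → Cfsg.IsElementaryAbelian 2 E → Nat.card E ≤ 4)
    (hW : Cfsg.IsElementaryAbelian 2 W) (hWP : W ≤ P) (hW1 : W ≠ ⊥)
    (hdW : ∀ w ∈ W, d * w * d⁻¹ ∈ W) (hfpf : ∀ w ∈ W, d * w * d⁻¹ = w → w = 1) :
    Nat.card W = 4 ∧ (∀ x ∈ P, x * x = 1 → x ∈ W) ∧ (∀ w ∈ W, ∀ x ∈ P, Commute w x) ∧
      ∀ w ∈ W, d ^ 3 * w * (d ^ 3)⁻¹ = w := by
  haveI : Fact (Nat.Prime 2) := ⟨Nat.prime_two⟩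
  obtain ⟨w₀, hw₀, hw₀1⟩ : ∃ w ∈ W, w ≠ 1 := by
    by_contra h
    push Not at h
    exact hW1 ((eq_bot_iff_forall W).mpr h)
  have hge : ∀ (A : Subgroup X), A ≤ W → (∀ a ∈ A, d * a * d⁻¹ ∈ A) → ∀ a ∈ A, a ≠ 1 →
      3 ≤ Nat.card A := by
    intro A hAW hdA a ha ha1
    refine three_le_card ha (hdA a ha) ha1 (fun e => ha1 ?_) (fun e => ha1 (hfpf a (hAW ha) e.symm))
    simpa using e
  have hle4 : Nat.card W ≤ 4 := hrank W hWP hW
  have hcard4 : ∀ A : Subgroup X, A ≤ W → 3 ≤ Nat.card A → A = W ∧ Nat.card W = 4 := by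
    intro A hAW h3
    have hWp : IsPGroup 2 W := hP.to_le hWP
    obtain ⟨i, hi⟩ := IsPGroup.iff_card.mp (hP.to_le (hAW.trans hWP))
    obtain ⟨j, hj⟩ := IsPGroup.iff_card.mp hWp
    have hle := card_le_of_le hAW
    have hi2 : 2 ≤ i := by
      by_contra h
      have := Nat.pow_le_pow_right (n := 2) (i := i) (j := 1) (by norm_num) (by omega)
      omega
    have := Nat.pow_le_pow_right (n := 2) (i := 2) (j := i) (by norm_num) hi2
    exact ⟨eq_of_le_of_card_ge hAW (by omega), by omega⟩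
  have h4 := (hcard4 W le_rfl (hge W le_rfl hdW w₀ hw₀ hw₀1)).2
  let W₀ : Subgroup X :=
    { carrier := {z | z ∈ P ∧ z * z = 1 ∧ ∀ x ∈ P, Commute z x}
      one_mem' := ⟨one_mem _, one_mul 1, fun x _ => Commute.one_left x⟩
      mul_mem' := fun {a b} ha hb => ⟨mul_mem ha.1 hb.1, by
        rw [(ha.2.2 b hb.1).symm.mul_mul_mul_comm, ha.2.1, hb.2.1, one_mul],
        fun x hx => (ha.2.2 x hx).mul_left (hb.2.2 x hx)⟩
      inv_mem' := fun {a} ha => ⟨inv_mem ha.1, by rw [← mul_inv_rev, ha.2.1, inv_one],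
        fun x hx => (ha.2.2 x hx).inv_left⟩ }
  have hW₀el : Cfsg.IsElementaryAbelian 2 W₀ := ⟨⟨⟨fun a b => Subtype.ext (a.2.2.2 b b.2.1)⟩⟩,
    fun a ha => by rw [pow_two]; exact ha.2.1⟩
  have hsup := hrank (W ⊔ W₀) (sup_le hWP fun z hz => hz.1)
    (sup_elementary hW hW₀el fun a ha b hb => (hb.2.2 a (hWP ha)).symm)
  have heq : W = W ⊔ W₀ := eq_of_le_of_card_ge le_sup_left (by rw [h4]; exact hsup)
  have hW₀W : W₀ ≤ W := heq ▸ le_sup_right
  have hPne : (⊤ : Subgroup P) ≠ ⊥ := fun h => hw₀1 (by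
    have := (h ▸ mem_top (⟨w₀, hWP hw₀⟩ : P) : (⟨w₀, hWP hw₀⟩ : P) ∈ (⊥ : Subgroup P))
    rw [mem_bot] at this
    exact congrArg Subtype.val this)
  obtain ⟨z, -, hzc, hzo⟩ := PGroup.exists_central_order_p hP hPne
  have hzW₀ : (z : X) ∈ W₀ := ⟨z.2, by
    rw [← pow_two, ← SubgroupClass.coe_pow, ← hzo, pow_orderOf_eq_one]; rfl,
    fun x hx => (congrArg Subtype.val (mem_center_iff.mp hzc ⟨x, hx⟩)).symm⟩
  have hdW₀ : ∀ a ∈ W₀, d * a * d⁻¹ ∈ W₀ := fun a ha => ⟨hdP a ha.1, by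
    rw [show d * a * d⁻¹ * (d * a * d⁻¹) = d * (a * a) * d⁻¹ by group, ha.2.1]; simp, fun x hx => by
    have hx' : d⁻¹ * x * d ∈ P := by
      have e : d⁻¹ * x * d = d ^ (3 ^ n - 1) * x * (d ^ (3 ^ n - 1))⁻¹ := by
        have : d ^ (3 ^ n - 1) = d⁻¹ := eq_inv_of_mul_eq_one_left (by
          rw [← pow_succ, Nat.sub_add_cancel (Nat.one_le_pow _ _ (by norm_num)), ← hd,
            pow_orderOf_eq_one])
        rw [this, inv_inv]
      rw [e]
      have : ∀ k : ℕ, d ^ k * x * (d ^ k)⁻¹ ∈ P := by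
        intro k
        induction k with
        | zero => simpa using hx
        | succ k ih =>
          rw [show d ^ (k + 1) * x * (d ^ (k + 1))⁻¹ = d * (d ^ k * x * (d ^ k)⁻¹) * d⁻¹ by
            rw [pow_succ']; group]
          exact hdP _ ih
      exact this _
    have h1 := (ha.2.2 _ hx').eq
    show d * a * d⁻¹ * x = x * (d * a * d⁻¹)
    calc d * a * d⁻¹ * x = d * (a * (d⁻¹ * x * d)) * d⁻¹ := by group
      _ = d * ((d⁻¹ * x * d) * a) * d⁻¹ := by rw [h1]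
      _ = _ := by group⟩
  have hz1 : (z : X) ≠ 1 := fun h => by
    rw [Subtype.ext h (a2 := (1 : P)), orderOf_one] at hzo
    norm_num at hzo
  have hW₀eq := (hcard4 W₀ hW₀W (hge W₀ hW₀W hdW₀ _ hzW₀ hz1)).1
  have hWc : ∀ w ∈ W, ∀ x ∈ P, Commute w x := fun w hw => (hW₀eq.symm ▸ hw : w ∈ W₀).2.2
  refine ⟨h4, fun x hx hx2 => ?_, hWc, fun w hw => ?_⟩
  · have hxe : Cfsg.IsElementaryAbelian 2 (zpowers x) := ⟨inferInstance, fun a ha => by
      obtain ⟨i, rfl⟩ := mem_zpowers_iff.mp ha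
      rw [← zpow_natCast, zpow_comm, zpow_natCast, pow_two, hx2, one_zpow]⟩
    have h := hrank (W ⊔ zpowers x) (sup_le hWP (zpowers_le.mpr hx))
      (sup_elementary hW hxe fun a ha b hb => by
        obtain ⟨i, rfl⟩ := mem_zpowers_iff.mp hb
        exact (hWc a ha x hx).zpow_right i)
    have e : W = W ⊔ zpowers x := eq_of_le_of_card_ge le_sup_left (by rw [h4]; exact h)
    exact e ▸ mem_sup_right (mem_zpowers x)
  · by_cases hw1 : w = 1
    · simp [hw1]
    set v := d * w * d⁻¹ with hv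
    set u := d * v * d⁻¹ with hu
    have hvW : v ∈ W := hdW w hw
    have huW : u ∈ W := hdW v hvW
    have hwv : w ≠ v := fun e => hw1 (hfpf w hw e.symm)
    have hv1 : v ≠ 1 := fun e => hw1 (by simpa [hv] using e)
    have huv : u ≠ v := fun e => hv1 (hfpf v hvW e)
    have hu1 : u ≠ 1 := fun e => hv1 (by simpa [hu] using e)
    have huw : u ≠ w := fun e => hw1 (hfpf w hw (by
      have h2 : Commute (d ^ 2) w := mul_inv_eq_iff_eq_mul.mp (by
        rw [show d ^ 2 * w * (d ^ 2)⁻¹ = u by rw [hu, hv, pow_two]; group, e])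
      have e2 : d = (d ^ 2) ^ ((3 ^ n + 1) / 2) := by
        obtain ⟨r, hr⟩ : Odd (3 ^ n) := Odd.pow (by decide)
        rw [← pow_mul, show 2 * ((3 ^ n + 1) / 2) = 3 ^ n + 1 by omega, pow_succ, ← hd,
          pow_orderOf_eq_one, one_mul]
      have h3 : Commute d w := by rw [e2]; exact h2.pow_left _
      exact mul_inv_eq_iff_eq_mul.mpr h3.eq))
    have hww : w * w = 1 := by rw [← pow_two]; exact hW.2 w hw
    have hvv : v * v = 1 := by rw [← pow_two]; exact hW.2 v hvW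
    have hwvW : w * v ∈ W := mul_mem hw hvW
    have huwv : u = w * v := by
      by_contra hne
      rcases mem_of_card_four h4 (fun a ha => by rw [← pow_two]; exact hW.2 a ha) hw hvW hw1 hv1 hwv
        huW with e | e | e | e
      · exact hu1 e
      · exact huw e
      · exact huv e
      · exact hne e
    have hcW : ∀ a ∈ W, ∀ b ∈ W, a * b = b * a := fun a ha b hb =>
      congrArg Subtype.val (hW.1.is_comm.comm ⟨a, ha⟩ ⟨b, hb⟩)
    calc d ^ 3 * w * (d ^ 3)⁻¹ = d * u * d⁻¹ := by rw [hu, hv, pow_succ, pow_two]; group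
      _ = (d * w * d⁻¹) * (d * v * d⁻¹) := by rw [huwv]; group
      _ = v * (w * v) := by rw [← hv, ← hu, huwv]
      _ = w := by rw [hcW w hw v hvW, ← mul_assoc, hvv, one_mul]

end Cfsg.Agent.Squaring
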